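import Cfsg.Agent.SpecSpEight.Torus

/-!
Unipotent isometries of small quadratic spaces in characteristic two.
-/

set_option autoImplicit false
set_option maxHeartbeats 1000000

namespace Cfsg.Agent.SpecSpEight

open Module QuadraticMap Cfsg.Agent.Classical.Quad

universe u v

variable {F : Type u} [Field F] [CharP F 2] {V : Type v} [AddCommGroup V] [Module F V]

theorem add_self_zero (K : Type u) [Field K] [CharP K 2] [Module K V] (x : V) : x + x = 0 := by
  rw [← two_smul K, CharTwo.two_eq_zero, zero_smul]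

theorem one_add_pow (N : Module.End F V) : ∀ i : ℕ, (1 + N) ^ 2 ^ i = 1 + N ^ 2 ^ i
  | 0 => by rw [pow_zero, pow_one, pow_one]
  | i + 1 => by
    rw [pow_succ, pow_mul, one_add_pow N i, pow_mul (N : Module.End F V), pow_two, pow_two]
    refine LinearMap.ext fun x => ?_
    simp only [LinearMap.add_apply, Module.End.mul_apply, Module.End.one_apply, map_add]
    generalize (N ^ 2 ^ i) x = y
    generalize (N ^ 2 ^ i) y = z
    calc x + y + (y + z) = x + (y + y) + z := by abel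
      _ = x + z := by rw [add_self_zero F y, add_zero]

/-- The isometry `1 + N` of a nilpotent map. -/
theorem exists_unip {Q : QuadraticForm F V} (N : Module.End F V) (k : ℕ) (hN : N ^ 2 ^ k = 0)
    (hQ : ∀ x, Q (x + N x) = Q x) :
    ∃ g : oG Q, g ^ 2 ^ k = 1 ∧ ∀ (i : ℕ) (x : V), (g ^ 2 ^ i).1 x = x + (N ^ 2 ^ i) x := by
  have h1 : (1 + N) ^ 2 ^ k = 1 := by rw [one_add_pow, hN, add_zero]
  let f : (Module.End F V)ˣ := Units.ofPowEqOne (1 + N) (2 ^ k) h1 (pow_ne_zero _ two_ne_zero)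
  let g : oG Q := ⟨LinearMap.GeneralLinearGroup.toLinearEquiv f, fun x => hQ x⟩
  have hpow : ∀ (n : ℕ) (x : V), (g ^ n).1 x = ((1 + N) ^ n) x := by
    intro n
    induction n with
    | zero => intro x; rfl
    | succ n ih => intro x; rw [pow_succ, pow_succ, oG_mul_apply, ih]; rfl
  refine ⟨g, Subtype.ext (LinearEquiv.ext fun x => ?_), fun i x => ?_⟩
  · rw [hpow, h1]; rfl
  · rw [hpow, one_add_pow]; rfl

theorem numerals (n : ℕ) [n.AtLeastTwo] : (OfNat.ofNat n : F) = ((n % 2 : ℕ) : F) := by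
  rw [← Nat.cast_ofNat (R := F), CharP.cast_eq_mod F 2]; rfl

variable {a b : F}

/-- The space carrying the unipotent isometries. -/
abbrev Sp (F : Type u) (k : ℕ) : Type u := ((Fin k → F) × (Fin k → F)) × (F × F)

theorem ext_two {x y : Sp F 1} (h1 : x.1.1 0 = y.1.1 0) (h2 : x.1.2 0 = y.1.2 0) (h3 : x.2.1 = y.2.1)
    (h4 : x.2.2 = y.2.2) : x = y := by
  ext i
  · rwa [Fin.eq_zero i]
  · rwa [Fin.eq_zero i]
  · exact h3
  · exact h4

theorem ext_three {x y : Sp F 2} (h1 : x.1.1 0 = y.1.1 0) (h1' : x.1.1 1 = y.1.1 1) (h2 : x.1.2 0 = y.1.2 0)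
    (h2' : x.1.2 1 = y.1.2 1) (h3 : x.2.1 = y.2.1) (h4 : x.2.2 = y.2.2) : x = y := by
  ext i
  · fin_cases i <;> assumption
  · fin_cases i <;> assumption
  · exact h3
  · exact h4

/-- An element of order two. -/
theorem exists_swap (ha : a ≠ 0) :
    ∃ g : oG (hyp (binForm a b) 0), g ^ 2 ^ 1 = 1 ∧ g ^ 2 ^ 0 ≠ 1 := by
  let N : Module.End F (Sp F 0) :=
    { toFun := fun x => (0, (a * x.2.2, 0))
      map_add' := fun x y => by simp [mul_add]
      map_smul' := fun c x => by simp [mul_left_comm] }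
  have hN : ∀ x, N x = (0, (a * x.2.2, 0)) := fun x => rfl
  obtain ⟨g, hg, hgx⟩ := exists_unip (Q := hyp (binForm a b) 0) N 1
    (LinearMap.ext fun x => by simp [hN, pow_two, Module.End.mul_apply])
    (fun x => by
      simp only [hN, hyp_apply, binForm_apply, Finset.univ_eq_empty, Finset.sum_empty, Prod.fst_add, Prod.snd_add]
      linear_combination (a * x.2.1 * x.2.2 + a ^ 2 * x.2.2 ^ 2) * CharTwo.two_eq_zero (R := F))
  refine ⟨g, hg, fun h => ha ?_⟩
  have := congrArg (fun f : oG (hyp (binForm a b) 0) => (f.1 ((0, 0), (0, 1))).2.1) h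
  simp only [hgx] at this
  simpa [hN] using this

/-- An element of order four. -/
theorem exists_four (ha : a ≠ 0) :
    ∃ g : oG (hyp (binForm a b) 1), g ^ 2 ^ 2 = 1 ∧ g ^ 2 ^ 1 ≠ 1 := by
  let N : Module.End F (Sp F 1) :=
    { toFun := fun x => ((fun _ => a * x.2.1 + a ^ 2 * x.2.2 + b * x.1.2 0, 0), (a * x.2.2, x.1.2 0))
      map_add' := fun x y => by refine ext_two ?_ ?_ ?_ ?_ <;> simp [mul_add, add_add_add_comm]
      map_smul' := fun c x => by refine ext_two ?_ ?_ ?_ ?_ <;> simp [mul_add, mul_left_comm] }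
  have hN : ∀ x, N x =
      ((fun _ => a * x.2.1 + a ^ 2 * x.2.2 + b * x.1.2 0, 0), (a * x.2.2, x.1.2 0)) := fun x => rfl
  obtain ⟨g, hg, hgx⟩ := exists_unip (Q := hyp (binForm a b) 1) N 2
    (LinearMap.ext fun x => by
      refine ext_two ?_ ?_ ?_ ?_ <;> simp [hN, pow_succ, Module.End.mul_apply])
    (fun x => by
      simp only [hN, hyp_apply, binForm_apply, Fin.sum_univ_one, Prod.fst_add, Prod.snd_add, Pi.add_apply,
        Pi.zero_apply]
      linear_combination (a * x.2.1 * x.1.2 0 + a * x.2.1 * x.2.2 + a ^ 2 * x.2.2 * x.1.2 0 +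
        a ^ 2 * x.2.2 ^ 2 + b * x.1.2 0 ^ 2 + b * x.2.2 * x.1.2 0) * CharTwo.two_eq_zero (R := F))
  refine ⟨g, hg, fun h => ha ?_⟩
  have := congrArg (fun f : oG (hyp (binForm a b) 1) => (f.1 ((0, fun _ => 1), (0, 0))).2.1) h
  simp only [hgx] at this
  simpa [hN, pow_two, Module.End.mul_apply] using this

/-- An element of order eight. -/
theorem exists_eight (ha : a ≠ 0) :
    ∃ g : oG (hyp (binForm a b) 2), g ^ 2 ^ 3 = 1 ∧ g ^ 2 ^ 2 ≠ 1 := by
  let N : Module.End F (Sp F 2) :=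
    { toFun := fun x => ((![x.1.1 1 + a * x.2.1 + a ^ 2 * x.2.2 + b * x.1.2 1,
        a * x.2.1 + a ^ 2 * x.2.2 + b * x.1.2 1], ![0, x.1.2 0]), (a * x.2.2, x.1.2 1))
      map_add' := fun x y => by
        refine ext_three ?_ ?_ ?_ ?_ ?_ ?_ <;>
          simp only [Prod.fst_add, Prod.snd_add, Pi.add_apply, Matrix.cons_val_zero, Matrix.cons_val_one] <;> ring
      map_smul' := fun c x => by
        refine ext_three ?_ ?_ ?_ ?_ ?_ ?_ <;>
          simp only [Prod.smul_fst, Prod.smul_snd, Pi.smul_apply, smul_eq_mul, RingHom.id_apply,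
            Matrix.cons_val_zero, Matrix.cons_val_one] <;> ring }
  have hN : ∀ x, N x = ((![x.1.1 1 + a * x.2.1 + a ^ 2 * x.2.2 + b * x.1.2 1,
        a * x.2.1 + a ^ 2 * x.2.2 + b * x.1.2 1], ![0, x.1.2 0]), (a * x.2.2, x.1.2 1)) := fun x => rfl
  obtain ⟨g, hg, hgx⟩ := exists_unip (Q := hyp (binForm a b) 2) N 3
    (LinearMap.ext fun x => by
      refine ext_three ?_ ?_ ?_ ?_ ?_ ?_ <;> simp [hN, pow_succ, Module.End.mul_apply])
    (fun x => by
      simp only [hN, hyp_apply, binForm_apply, Fin.sum_univ_two, Prod.fst_add, Prod.snd_add, Pi.add_apply,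
        Matrix.cons_val_zero, Matrix.cons_val_one]
      ring_nf
      simp [numerals])
  refine ⟨g, hg, fun h => ha ?_⟩
  have := congrArg (fun f : oG (hyp (binForm a b) 2) => (f.1 ((0, ![1, 0]), (0, 0))).1.1 1) h
  simp only [hgx] at this
  simpa [hN, pow_succ, Module.End.mul_apply] using this

/-- A product of two reflections. -/
theorem exists_even_two (ha : a ≠ 0) :
    ∃ g : oG (hyp (binForm a b) 1), g ^ 2 ^ 1 = 1 ∧
      (∀ ψ : oG (hyp (binForm a b) 1) →* ℤˣ, (∀ v (hv : hyp (binForm a b) 1 v ≠ 0), ψ (rO hv) = -1) → ψ g = 1) ∧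
      ∃ x, ∑ i ∈ Finset.range (2 ^ 1), (g ^ i).1 x ≠ 0 := by
  set Q := hyp (binForm a b) 1
  let v₁ : Sp F 1 := ((0, 0), (1, 0))
  let v₂ : Sp F 1 := ((0, fun _ => 1), (1, 0))
  have h₁ : Q v₁ = 1 := by simp [Q, v₁, hyp_apply, binForm_apply]
  have h₂ : Q v₂ = 1 := by simp [Q, v₂, hyp_apply, binForm_apply]
  have n₁ : Q v₁ ≠ 0 := by rw [h₁]; exact one_ne_zero
  have n₂ : Q v₂ ≠ 0 := by rw [h₂]; exact one_ne_zero
  let g : oG Q := rO n₁ * rO n₂
  have hg : ∀ x : Sp F 1, g.1 x =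
      ((x.1.1, fun _ => x.1.2 0 + (x.1.1 0 + a * x.2.2)), (x.2.1 + x.1.1 0, x.2.2)) := fun x => by
    simp only [g, oG_mul_apply, rO_apply, h₁, h₂, div_one, CharTwo.sub_eq_add]
    refine ext_two ?_ ?_ ?_ ?_ <;>
      simp [Q, v₁, v₂, polar_hyp, polar_binForm, CharTwo.sub_eq_add] <;> ring_nf <;> (try simp [numerals, CharTwo.sub_eq_add]) <;> (try ring_nf)
  refine ⟨g, Subtype.ext (LinearEquiv.ext fun x => ?_), fun ψ hψ => ?_, ((fun _ => 1, 0), (0, 0)), ?_⟩
  · rw [pow_one, pow_two, oG_mul_apply, hg, hg]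
    refine ext_two ?_ ?_ ?_ ?_ <;> simp [add_assoc, CharTwo.add_self_eq_zero]
  · simp [g, map_mul, hψ]
  · rw [pow_one, Finset.sum_range_succ, Finset.sum_range_one, pow_zero, pow_one]
    intro h
    have := congrArg (fun y : Sp F 1 => y.2.1) h
    simp [hg] at this

/-- A product of four reflections. -/
theorem exists_even_four (ha : a ≠ 0) :
    ∃ g : oG (hyp (binForm a b) 2), g ^ 2 ^ 2 = 1 ∧
      (∀ ψ : oG (hyp (binForm a b) 2) →* ℤˣ, (∀ v (hv : hyp (binForm a b) 2 v ≠ 0), ψ (rO hv) = -1) → ψ g = 1) ∧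
      ∃ x, ∑ i ∈ Finset.range (2 ^ 2), (g ^ i).1 x ≠ 0 := by
  set Q := hyp (binForm a b) 2
  let v₁ : Sp F 2 := ((0, 0), (1, 0))
  let v₂ : Sp F 2 := ((0, ![0, 1]), (1, 0))
  let v₃ : Sp F 2 := ((0, ![1, 0]), (1, 0))
  let v₄ : Sp F 2 := ((![1, 1], 0), (1, 0))
  have h₁ : Q v₁ = 1 := by simp [Q, v₁, hyp_apply, binForm_apply]
  have h₂ : Q v₂ = 1 := by simp [Q, v₂, hyp_apply, binForm_apply]
  have h₃ : Q v₃ = 1 := by simp [Q, v₃, hyp_apply, binForm_apply]
  have h₄ : Q v₄ = 1 := by simp [Q, v₄, hyp_apply, binForm_apply]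
  have n₁ : Q v₁ ≠ 0 := by rw [h₁]; exact one_ne_zero
  have n₂ : Q v₂ ≠ 0 := by rw [h₂]; exact one_ne_zero
  have n₃ : Q v₃ ≠ 0 := by rw [h₃]; exact one_ne_zero
  have n₄ : Q v₄ ≠ 0 := by rw [h₄]; exact one_ne_zero
  let g : oG Q := rO n₁ * rO n₂ * rO n₃ * rO n₄
  have hg : ∀ x : Sp F 2, g.1 x =
      ((![x.1.1 0 + x.1.2 0 + x.1.2 1 + a * x.2.2, x.1.1 1 + x.1.2 0 + x.1.2 1 + a * x.2.2],
        ![x.1.1 0 + x.1.2 1, x.1.1 1 + x.1.2 0]),
        (x.2.1 + x.1.1 0 + x.1.1 1 + x.1.2 0 + x.1.2 1, x.2.2)) := fun x => by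
    simp only [g, oG_mul_apply, rO_apply, h₁, h₂, h₃, h₄, div_one, CharTwo.sub_eq_add]
    refine ext_three ?_ ?_ ?_ ?_ ?_ ?_ <;>
      simp [Q, v₁, v₂, v₃, v₄, polar_hyp, polar_binForm, Fin.sum_univ_two, CharTwo.sub_eq_add, Matrix.vecHead,
        Matrix.vecTail] <;> (try ring_nf) <;>
      (try simp [CharTwo.sub_eq_add, numerals]) <;> (try ring_nf)
  refine ⟨g, Subtype.ext (LinearEquiv.ext fun x => ?_), fun ψ hψ => ?_, ((![1, 0], 0), (0, 0)), ?_⟩
  · simp only [show (2 : ℕ) ^ 2 = 1 + 1 + 1 + 1 from rfl, pow_succ, pow_zero, one_mul, oG_mul_apply, hg]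
    refine ext_three ?_ ?_ ?_ ?_ ?_ ?_ <;> simp <;> (try ring_nf) <;> (try simp [numerals])
  · simp [g, map_mul, hψ]
  · intro h
    have := congrArg (fun y : Sp F 2 => y.1.2 0) h
    simp [Finset.sum_range_succ, pow_succ, oG_mul_apply, hg, CharTwo.add_self_eq_zero] at this

end Cfsg.Agent.SpecSpEight
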