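import Cfsg.Agent.SpecSpEight.Bound
import Cfsg.Agent.SpecSpEight.Unip

/-!
The maximal element orders are attained in the orthogonal group of minus type in dimension eight, and in the
extension of the natural module by the kernel of the Dickson invariant.
-/

set_option autoImplicit false

namespace Cfsg.Agent.SpecSpEight

open Module QuadraticMap Cfsg.Agent.Classical.Quad

universe u v w z

variable {F : Type u} [Field F] {V : Type v} [AddCommGroup V] [Module F V] {Q : QuadraticForm F V}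

/-- The orthogonal sum of isometries. -/
def prodO {U : Type w} [AddCommGroup U] [Module F U] {W : Type z} [AddCommGroup W] [Module F W]
    (R : QuadraticForm F U) (S : QuadraticForm F W) : oG R × oG S →* oG (R.prod S) where
  toFun p := ⟨p.1.1.prodCongr p.2.1, fun x => by
    show R (p.1.1 x.1) + S (p.2.1 x.2) = R x.1 + S x.2
    rw [p.1.2, p.2.2]⟩
  map_one' := rfl
  map_mul' _ _ := rfl

theorem prodO_injective {U : Type w} [AddCommGroup U] [Module F U] {W : Type z} [AddCommGroup W] [Module F W]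
    (R : QuadraticForm F U) (S : QuadraticForm F W) : Function.Injective (prodO R S) := fun p p' h => by
  refine Prod.ext (Subtype.ext (LinearEquiv.ext fun x => ?_)) (Subtype.ext (LinearEquiv.ext fun x => ?_))
  · exact congrArg (fun f : oG (R.prod S) => (f.1 (x, 0)).1) h
  · exact congrArg (fun f : oG (R.prod S) => (f.1 (0, x)).2) h

theorem oCongr_apply' {W : Type z} [AddCommGroup W] [Module F W] {R : QuadraticForm F W} (e : W ≃ₗ[F] V)
    (he : ∀ x, Q (e x) = R x) (g : oG R) (x : W) : (oCongr e he g).1 (e x) = e (g.1 x) := by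
  show e (g.1 (e.symm (e x))) = _
  rw [LinearEquiv.symm_apply_apply]

variable [Finite F] [CharP F 2] [FiniteDimensional F V]

/-- The action on the natural module. -/
def actX (hQ : (polarBilin Q).Nondegenerate) (hex : Nat.card F ≠ 2 ∨ finrank F V ≠ 4) :
    (dickson hQ hex).ker →* MulAut (Multiplicative V) where
  toFun x := AddEquiv.toMultiplicative x.1.1.toAddEquiv
  map_one' := rfl
  map_mul' _ _ := rfl

/-- The extension of the natural module by the kernel of the Dickson invariant. -/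
abbrev Ext (hQ : (polarBilin Q).Nondegenerate) (hex : Nat.card F ≠ 2 ∨ finrank F V ≠ 4) : Type _ :=
  Multiplicative V ⋊[actX hQ hex] (dickson hQ hex).ker

theorem ext_pow_eq (hQ : (polarBilin Q).Nondegenerate) (hex : Nat.card F ≠ 2 ∨ finrank F V ≠ 4) (h : Ext hQ hex) :
    ∀ n : ℕ, (h ^ n).right = h.right ^ n ∧
      Multiplicative.toAdd (h ^ n).left =
        ∑ i ∈ Finset.range n, (h.right.1 ^ i).1 (Multiplicative.toAdd h.left) := by
  intro n
  induction n with
  | zero => exact ⟨rfl, by rw [pow_zero]; rfl⟩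
  | succ n ih =>
    refine ⟨by rw [pow_succ, pow_succ, SemidirectProduct.mul_right, ih.1], ?_⟩
    rw [pow_succ, SemidirectProduct.mul_left, toAdd_mul, ih.2, Finset.sum_range_succ, ih.1]
    rfl

theorem dvd_order {G : Type*} [Monoid G] {x : G} {i M : ℕ} (hM : M ≠ 0) (h1 : x ^ (2 ^ (i + 1) * M) = 1)
    (h2 : x ^ (2 ^ i * M) ≠ 1) (h3 : M ∣ orderOf x) : 2 ^ (i + 1) * M ∣ orderOf x := by
  obtain ⟨c, hc⟩ := h3
  have h4 : c ∣ 2 ^ (i + 1) := by
    have := orderOf_dvd_of_pow_eq_one h1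
    rw [hc, mul_comm] at this
    exact Nat.dvd_of_mul_dvd_mul_right (Nat.pos_of_ne_zero hM) this
  obtain ⟨j, hj, rfl⟩ := (Nat.dvd_prime_pow Nat.prime_two).1 h4
  have h5 : j = i + 1 := by
    by_contra hne
    refine h2 (orderOf_dvd_iff_pow_eq_one.1 ?_)
    rw [hc, mul_comm]
    exact Nat.mul_dvd_mul_right (pow_dvd_pow 2 (by omega)) _
  rw [hc, h5, mul_comm]

theorem dickson_odd (hQ : (polarBilin Q).Nondegenerate) (hex : Nat.card F ≠ 2 ∨ finrank F V ≠ 4) {g : oG Q}
    {M : ℕ} (hM : Odd M) (h : g ^ M = 1) : dickson hQ hex g = 1 := by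
  have h1 := congrArg (dickson hQ hex) h
  rw [map_pow, map_one] at h1
  rcases Int.units_eq_one_or (dickson hQ hex g) with h2 | h2
  · exact h2
  · rw [h2, hM.neg_one_pow] at h1
    exact absurd h1 (by decide)

/-- A semisimple witness. -/
theorem wit_odd (hQ : (polarBilin Q).Nondegenerate) (hex : Nat.card F ≠ 2 ∨ finrank F V ≠ 4) {t : oG Q} {M : ℕ}
    (hM : Odd M) (ht : orderOf t = M) :
    (∃ g : oG Q, 2 ^ 0 * M ∣ orderOf g) ∧ ∃ h : Ext hQ hex, 2 ^ 0 * M ∣ orderOf h := by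
  have hX : t ∈ (dickson hQ hex).ker := dickson_odd hQ hex hM (ht ▸ pow_orderOf_eq_one t)
  refine ⟨⟨t, by rw [ht, pow_zero, one_mul]⟩, SemidirectProduct.inr (⟨t, hX⟩ : (dickson hQ hex).ker), ?_⟩
  rw [orderOf_injective _ SemidirectProduct.inr_injective, Subgroup.orderOf_mk, ht, pow_zero, one_mul]

/-- A witness with a unipotent part. -/
theorem wit_even (hQ : (polarBilin Q).Nondegenerate) (hex : Nat.card F ≠ 2 ∨ finrank F V ≠ 4)
    {U : Type w} [AddCommGroup U] [Module F U] {W : Type z} [AddCommGroup W] [Module F W]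
    {R : QuadraticForm F U} {S : QuadraticForm F W} (hiso : Iso (R.prod S) Q) {M i : ℕ} (hM : Odd M)
    {t : oG R} (ht : orderOf t = M)
    (hu : ∃ u : oG S, u ^ 2 ^ (i + 1) = 1 ∧ u ^ 2 ^ i ≠ 1)
    (hv : ∃ u : oG S, u ^ 2 ^ i = 1 ∧
      (∀ ψ : oG S →* ℤˣ, (∀ v (hv : S v ≠ 0), ψ (rO hv) = -1) → ψ u = 1) ∧
      ∃ x, ∑ j ∈ Finset.range (2 ^ i), (u ^ j).1 x ≠ 0) :
    (∃ g : oG Q, 2 ^ (i + 1) * M ∣ orderOf g) ∧ ∃ h : Ext hQ hex, 2 ^ (i + 1) * M ∣ orderOf h := by
  obtain ⟨e, he⟩ := hiso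
  let E : oG R × oG S →* oG Q := (oCongr e he).toMonoidHom.comp (prodO R S)
  have hE : Function.Injective E := (oCongr e he).injective.comp (prodO_injective R S)
  have hM0 : M ≠ 0 := by rintro rfl; simp at hM
  have htM : t ^ M = 1 := ht ▸ pow_orderOf_eq_one t
  have hdvd : ∀ u : oG S, M ∣ orderOf (E (t, u)) := fun u => by
    rw [orderOf_injective E hE, Prod.orderOf_mk, ← ht]
    exact Nat.dvd_lcm_left _ _
  constructor
  · obtain ⟨u, hu1, hu2⟩ := hu
    refine ⟨E (t, u), dvd_order hM0 ?_ (fun h => hu2 ?_) (hdvd u)⟩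
    · rw [← map_pow, Prod.pow_mk, pow_mul u, hu1, one_pow, mul_comm, pow_mul, htM, one_pow, Prod.mk_one_one,
        map_one]
    · rw [← map_pow] at h
      have h3 : u ^ (2 ^ i * M) = 1 := congrArg Prod.snd (hE (h.trans (map_one E).symm))
      rw [← orderOf_dvd_iff_pow_eq_one] at hu1 h3 ⊢
      exact (Nat.Coprime.coprime_dvd_left hu1 ((Nat.coprime_two_left.2 hM).pow_left _)).dvd_of_dvd_mul_right h3
  · obtain ⟨u, hu1, hψ, x, hx⟩ := hv
    have hX : E (t, u) ∈ (dickson hQ hex).ker := by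
      rw [MonoidHom.mem_ker, show ((t, u) : oG R × oG S) = (t, 1) * (1, u) by simp, map_mul, map_mul,
        dickson_odd hQ hex hM (g := E (t, 1)) (by rw [← map_pow, Prod.pow_mk, htM, one_pow, Prod.mk_one_one, map_one]),
        one_mul]
      refine hψ ((dickson hQ hex).comp (E.comp (MonoidHom.inr (oG R) (oG S)))) fun v hv => ?_
      have hp : Q (e (0, v)) = S v := by rw [he]; simp
      have hv' : Q (e (0, v)) ≠ 0 := by rwa [hp]
      have hr : E (1, rO hv) = rO hv' := Subtype.ext (LinearEquiv.ext fun y => by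
        obtain ⟨y, rfl⟩ := e.surjective y
        rw [rO_apply hv' (e y), show (E (1, rO hv)).1 (e y) = e ((prodO R S (1, rO hv)).1 y) from
          oCongr_apply' e he _ _, show (prodO R S (1, rO hv)).1 y = (y.1, (rO hv).1 y.2) from rfl, rO_apply hv]
        have hpol : polar Q (e y) (e (0, v)) = polar S y.2 v := by
          simp only [polar, ← map_add, he]
          simp [QuadraticMap.prod_apply]
        rw [hpol, hp, ← map_smul, ← map_sub]
        congr 1
        exact Prod.ext (by simp) (by simp))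
      show dickson hQ hex (E (1, rO hv)) = -1
      rw [hr, dickson_rO hQ hex hv']
    let h : Ext hQ hex := ⟨Multiplicative.ofAdd (e (0, x)), ⟨E (t, u), hX⟩⟩
    have hsum : ∀ n, Multiplicative.toAdd (h ^ n).left = e (0, ∑ j ∈ Finset.range n, (u ^ j).1 x) := fun n => by
      rw [(ext_pow_eq hQ hex h n).2, ← LinearMap.inr_apply (R := F) (M := U), map_sum, map_sum]
      refine Finset.sum_congr rfl fun j _ => ?_
      show ((E (t, u)) ^ j).1 (e (0, x)) = _
      rw [← map_pow, show (E ((t, u) ^ j)).1 (e (0, x)) = e ((prodO R S ((t, u) ^ j)).1 (0, x)) from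
        oCongr_apply' e he _ _, LinearMap.inr_apply]
      exact congrArg e (Prod.ext (map_zero (t ^ j).1) rfl)
    have hper : ∀ n N : ℕ, u ^ n = 1 →
        ∑ j ∈ Finset.range (n * N), (u ^ j).1 x = N • ∑ j ∈ Finset.range n, (u ^ j).1 x := by
      intro n N hn
      induction N with
      | zero => simp
      | succ N ih =>
        rw [Nat.mul_succ, Finset.sum_range_add, ih, succ_nsmul]
        refine congrArg _ (Finset.sum_congr rfl fun j _ => ?_)
        rw [pow_add, pow_mul, hn, one_pow, one_mul]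
    refine ⟨h, dvd_order hM0 ?_ (fun hh => hx ?_) ?_⟩
    · refine SemidirectProduct.ext ?_ ?_
      · apply Multiplicative.toAdd.injective
        rw [hsum, show 2 ^ (i + 1) * M = 2 ^ i * (2 * M) by ring, hper _ _ hu1, mul_comm 2 M, mul_nsmul, two_nsmul,
          add_self_zero F]
        exact map_zero e
      · rw [(ext_pow_eq hQ hex h _).1]
        refine Subtype.ext ?_
        show E (t, u) ^ _ = 1
        rw [← map_pow, Prod.pow_mk, mul_comm, pow_mul t, htM, one_pow, show M * 2 ^ (i + 1) = 2 ^ i * (2 * M) by ring,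
          pow_mul u, hu1, one_pow, Prod.mk_one_one, map_one]
    · have h4 : e (0, ∑ j ∈ Finset.range (2 ^ i * M), (u ^ j).1 x) = 0 := by rw [← hsum, hh]; rfl
      rw [LinearEquiv.map_eq_zero_iff, Prod.mk_eq_zero, hper _ _ hu1] at h4
      obtain ⟨k, rfl⟩ := hM
      rw [succ_nsmul, mul_comm, mul_nsmul, two_nsmul, add_self_zero F, zero_add] at h4
      exact h4.2
    · have h5 := orderOf_map_dvd (SemidirectProduct.rightHom : Ext hQ hex →* _) h
      refine (hdvd u).trans ?_
      rwa [show SemidirectProduct.rightHom h = (⟨E (t, u), hX⟩ : (dickson hQ hex).ker) from rfl,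
        Subgroup.orderOf_mk] at h5

/-- A torus element in an orthogonal sum. -/
theorem exists_sum {U : Type w} [AddCommGroup U] [Module F U] {W : Type z} [AddCommGroup W] [Module F W]
    {R : QuadraticForm F U} {S : QuadraticForm F W} {m n : ℕ} (hc : m.Coprime n) {g : oG R} (hg : orderOf g = m)
    {h : oG S} (hh : orderOf h = n) : ∃ t : oG (R.prod S), orderOf t = m * n :=
  ⟨prodO R S (g, h), by rw [orderOf_injective _ (prodO_injective R S), Prod.orderOf_mk, hg, hh, hc.lcm_eq_mul]⟩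

theorem exists_congr' {W : Type z} [AddCommGroup W] [Module F W] {R : QuadraticForm F W} (h : Iso R Q) {m : ℕ}
    (ht : ∃ t : oG R, orderOf t = m) : ∃ t : oG Q, orderOf t = m := by
  obtain ⟨e, he⟩ := h
  obtain ⟨t, ht⟩ := ht
  exact ⟨oCongr e he t, by rw [MulEquiv.orderOf_eq, ht]⟩

theorem coprime_pm {q A C : ℕ} (hq : 2 ∣ q) (hA : A ∣ q + 1) (hC : C ∣ q - 1) : A.Coprime C := by
  refine Nat.Coprime.coprime_dvd_left hA (Nat.Coprime.coprime_dvd_right hC ?_)
  obtain ⟨k, rfl⟩ := hq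
  rcases Nat.eq_zero_or_pos k with rfl | hk
  · simp
  · rw [show 2 * k + 1 = (2 * k - 1) + 2 by omega, Nat.coprime_self_add_left, Nat.coprime_two_left, Nat.odd_iff]
    omega

omit [Finite F] in
theorem iso_split (k : ℕ) : Iso (hyp (binForm (1 : F) 0) k) (hyp (zeroForm F) (k + 1)) :=
  (iso_hyp iso_binForm_plus k).trans (hyp_hyp k 1 _)

omit [Finite F] in
theorem exists_id {a b : F} (ha : a ≠ 0) :
    ∃ g : oG (hyp (binForm a b) 0), g ^ 2 ^ 0 = 1 ∧
      (∀ ψ : oG (hyp (binForm a b) 0) →* ℤˣ, (∀ v (hv : hyp (binForm a b) 0 v ≠ 0), ψ (rO hv) = -1) → ψ g = 1) ∧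
      ∃ x, ∑ i ∈ Finset.range (2 ^ 0), (g ^ i).1 x ≠ 0 := by
  refine ⟨1, one_pow _, fun ψ _ => map_one ψ, ((0, 0), (1, 0)), ?_⟩
  rw [pow_zero, Finset.sum_range_one, pow_zero]
  intro h
  exact one_ne_zero (congrArg (fun y : Sp F 0 => y.2.1) h)

/-- Every maximal order is attained. -/
theorem exists_wit [Fintype F] {a b : F} (hab : ∀ z₁ z₂ : F, z₁ ^ 2 + a * z₁ * z₂ + b * z₂ ^ 2 = 0 → z₁ = 0 ∧ z₂ = 0)
    (hQ : (polarBilin (hyp (binForm a b) 3)).Nondegenerate)
    (hex : Nat.card F ≠ 2 ∨ finrank F (Sp F 3) ≠ 4) {P : ℕ × ℕ} (hP : P ∈ T8 (Fintype.card F)) :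
    (∃ g : oG (hyp (binForm a b) 3), 2 ^ P.1 * P.2 ∣ orderOf g) ∧ ∃ h : Ext hQ hex, 2 ^ P.1 * P.2 ∣ orderOf h := by
  set q := Fintype.card F with hq
  have hq2 : 2 ∣ q := Nat.dvd_of_mod_eq_zero (FiniteField.even_card_of_char_two (ringChar.eq F 2))
  have hqe : ∀ e, e ≠ 0 → 2 ∣ q ^ e := fun e he => hq2.trans (dvd_pow_self q he)
  have hqpos : 0 < q := Fintype.card_pos
  have hodd : ∀ e, e ≠ 0 → Odd (q ^ e + 1) ∧ Odd (q ^ e - 1) := fun e he => by
    have := hqe e he
    have := Nat.one_le_pow e q hqpos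
    rw [Nat.odd_iff, Nat.odd_iff]
    omega
  have hodd1 : Odd (q + 1) ∧ Odd (q - 1) := by simpa using hodd 1 one_ne_zero
  obtain ⟨hd1, hd2⟩ := dvd_sq_sub_one q
  obtain ⟨hd3, hd4⟩ := dvd_cube q hqpos
  have ha : a ≠ 0 := fun h => disc_ne_zero hab (by
    rw [h]; linear_combination (-2 * b) * CharTwo.two_eq_zero (R := F))
  have p : ∀ d, 1 ≤ d → ∃ t : oG (hyp (zeroForm F) d), orderOf t = q ^ d - 1 := fun d hd => exists_plus hd
  have m : ∀ d, ∃ t : oG (hyp (binForm a b) d), orderOf t = q ^ (d + 1) + 1 := fun d => by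
    simpa using exists_minus (d := d + 1) (by omega) hab
  obtain ⟨p1, hp1⟩ := p 1 le_rfl
  obtain ⟨p2, hp2⟩ := p 2 (by omega)
  obtain ⟨p3, hp3⟩ := p 3 (by omega)
  obtain ⟨m1, hm1⟩ := m 0
  obtain ⟨m2, hm2⟩ := m 1
  obtain ⟨m3, hm3⟩ := m 2
  obtain ⟨m4, hm4⟩ := m 3
  norm_num at hp1 hm1 hm2 hm3 hm4
  simp only [T8, List.mem_cons, List.not_mem_nil, or_false] at hP
  rcases hP with rfl | rfl | rfl | rfl | rfl | rfl | rfl | rfl | rfl | rfl | rfl | rfl
  · exact wit_odd hQ hex (hodd 4 (by norm_num)).1 hm4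
  · obtain ⟨t, ht⟩ := exists_congr' (plus_minus 2 1 (binForm a b))
      (exists_sum (coprime_pm (hqe 2 (by norm_num)) dvd_rfl dvd_rfl).symm hp2 hm2)
    refine wit_odd hQ hex (hodd 4 (by norm_num)).2 (t := t) (ht.trans ?_)
    have := Nat.sq_sub_sq (q ^ 2) 1
    rw [← pow_mul, one_pow] at this
    rw [this, mul_comm]
  · obtain ⟨t, ht⟩ := exists_congr' (plus_minus 3 0 (binForm a b))
      (exists_sum (coprime_pm (hqe 3 (by norm_num)) hd3 dvd_rfl).symm hp3 hm1)
    exact wit_odd hQ hex ((hodd 3 (by norm_num)).2.mul hodd1.1) ht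
  · obtain ⟨t, ht⟩ := exists_congr' (plus_minus 1 2 (binForm a b))
      (exists_sum (coprime_pm (hqe 3 (by norm_num)) dvd_rfl hd4).symm hp1 hm3)
    exact wit_odd hQ hex ((hodd 3 (by norm_num)).1.mul hodd1.2) (t := t) (by rw [ht, mul_comm])
  · exact wit_even hQ hex ((iso_prod ⟨.refl F _, fun _ => rfl⟩ (iso_split 0)).trans (minus_plus 1 2 _))
      (hodd 3 (by norm_num)).1 hm3 (exists_swap one_ne_zero) (exists_id one_ne_zero)
  · exact wit_even hQ hex (plus_minus 3 0 (binForm a b)) (hodd 3 (by norm_num)).2 hp3 (exists_swap ha) (exists_id ha)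
  · obtain ⟨t, ht⟩ := exists_sum (coprime_pm (q := q ^ 2) (hqe 2 (by norm_num)) dvd_rfl hd1) hm2 hm1
    exact wit_even hQ hex ((iso_prod (minus_minus hab 1 0) ⟨.refl F _, fun _ => rfl⟩).trans
        (plus_minus 3 0 (binForm a b)))
      ((hodd 2 (by norm_num)).1.mul hodd1.1) ht (exists_swap ha) (exists_id ha)
  · obtain ⟨t, ht⟩ := exists_sum (coprime_pm (q := q ^ 2) (hqe 2 (by norm_num)) dvd_rfl hd2) hm2 hp1
    exact wit_even hQ hex ((iso_prod (minus_plus 1 1 (binForm a b)) (iso_split 0)).trans (minus_plus 1 2 _))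
      ((hodd 2 (by norm_num)).1.mul hodd1.2) ht (exists_swap one_ne_zero) (exists_id one_ne_zero)
  · exact wit_even hQ hex ((iso_prod ⟨.refl F _, fun _ => rfl⟩ (iso_split 1)).trans (minus_plus 2 1 _))
      (hodd 2 (by norm_num)).1 hm2 (exists_four one_ne_zero) (exists_even_two one_ne_zero)
  · obtain ⟨t, ht⟩ := exists_sum (coprime_pm hq2 dvd_rfl dvd_rfl) hm1 hp1
    refine wit_even hQ hex ((iso_prod (minus_plus 1 0 (binForm a b)) (iso_split 1)).trans (minus_plus 2 1 _))
      (hodd 2 (by norm_num)).2 (t := t) (ht.trans ?_) (exists_four one_ne_zero) (exists_even_two one_ne_zero)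
    simpa using (Nat.sq_sub_sq q 1).symm
  · exact wit_even hQ hex ((iso_prod ⟨.refl F _, fun _ => rfl⟩ (iso_split 2)).trans (minus_plus 3 0 _))
      hodd1.1 hm1 (exists_eight one_ne_zero) (exists_even_four one_ne_zero)
  · exact wit_even hQ hex (plus_minus 1 2 (binForm a b)) hodd1.2 hp1 (exists_eight ha) (exists_even_four ha)

end Cfsg.Agent.SpecSpEight
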