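import Cfsg.Agent.FormOrder.Main

/-!
Element orders of isometries of non-degenerate forms of dimension at most eight in characteristic two.
-/

set_option autoImplicit false

namespace Cfsg.Agent.SpecSpEight

open Polynomial Cfsg.Agent.FormOrder

/-- The pairs (exponent of two, odd part) of the maximal element orders. -/
def T8 (q : ℕ) : List (ℕ × ℕ) :=
  [(0, q ^ 4 + 1), (0, q ^ 4 - 1), (0, (q ^ 3 - 1) * (q + 1)), (0, (q ^ 3 + 1) * (q - 1)), (1, q ^ 3 + 1),
    (1, q ^ 3 - 1), (1, (q ^ 2 + 1) * (q + 1)), (1, (q ^ 2 + 1) * (q - 1)), (2, q ^ 2 + 1), (2, q ^ 2 - 1),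
    (3, q + 1), (3, q - 1)]

theorem dvd_sq_sub_one (q : ℕ) : q + 1 ∣ q ^ 2 - 1 ∧ q - 1 ∣ q ^ 2 - 1 := by
  have h : q ^ 2 - 1 = (q + 1) * (q - 1) := by
    have := Nat.sq_sub_sq q 1
    simpa using this
  exact ⟨h ▸ dvd_mul_right _ _, h ▸ dvd_mul_left _ _⟩

theorem dvd_four_sub_one (q : ℕ) :
    q ^ 2 + 1 ∣ q ^ 4 - 1 ∧ q ^ 2 - 1 ∣ q ^ 4 - 1 ∧ q + 1 ∣ q ^ 4 - 1 ∧ q - 1 ∣ q ^ 4 - 1 := by
  obtain ⟨h1, h2⟩ := dvd_sq_sub_one (q ^ 2)
  rw [← pow_mul] at h1 h2
  exact ⟨h1, h2, (dvd_sq_sub_one q).1.trans h2, (dvd_sq_sub_one q).2.trans h2⟩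

theorem dvd_cube (q : ℕ) (hq : 1 ≤ q) : q + 1 ∣ q ^ 3 + 1 ∧ q - 1 ∣ q ^ 3 - 1 := by
  refine ⟨?_, ?_⟩
  · simpa using Odd.nat_add_dvd_pow_add_pow q 1 (by decide : Odd 3)
  · simpa using Nat.sub_dvd_pow_sub_pow q 1 3

/-- Elements of a multiset of positive weights. -/
theorem weight_split (s : Multiset (ℕ × Bool)) (hpos : ∀ e ∈ s, 0 < e.1) {e : ℕ × Bool} (he : e ∈ s) :
    e.1 ≤ (s.map Prod.fst).sum ∧ ∀ x ∈ s, x = e ∨ (1 ≤ x.1 ∧ x.1 + e.1 ≤ (s.map Prod.fst).sum ∧
      ∀ y ∈ s, y = e ∨ y = x ∨ (1 ≤ y.1 ∧ y.1 + x.1 + e.1 ≤ (s.map Prod.fst).sum)) := by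
  obtain ⟨t, rfl⟩ := Multiset.exists_cons_of_mem he
  rw [Multiset.map_cons, Multiset.sum_cons]
  refine ⟨Nat.le_add_right _ _, fun x hx => (Multiset.mem_cons.1 hx).imp id fun hx => ?_⟩
  obtain ⟨t', rfl⟩ := Multiset.exists_cons_of_mem hx
  rw [Multiset.map_cons, Multiset.sum_cons]
  refine ⟨hpos x (by simp), by omega, fun y hy => ?_⟩
  rcases Multiset.mem_cons.1 hy with h | h
  · exact Or.inl h
  rcases Multiset.mem_cons.1 h with h' | h'
  · exact Or.inr (Or.inl h')
  · refine Or.inr (Or.inr ⟨hpos y hy, ?_⟩)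
    have := Multiset.single_le_sum (s := t'.map Prod.fst) (fun _ _ => Nat.zero_le _) _
      (Multiset.mem_map_of_mem Prod.fst h')
    omega

theorem val_one (q : ℕ) (b : Bool) : val q (1, b) = if b then q + 1 else q - 1 := by
  simp [val]

theorem val_one_dvd_sq (q : ℕ) {x : ℕ × Bool} (h : x.1 = 1) : val q x ∣ q ^ 2 - 1 := by
  obtain ⟨d, b⟩ := x
  obtain rfl : d = 1 := h
  rw [val_one]
  cases b
  · exact (dvd_sq_sub_one q).2
  · exact (dvd_sq_sub_one q).1

theorem val_small_dvd_four (q : ℕ) {x : ℕ × Bool} (h0 : 1 ≤ x.1) (h : x.1 ≤ 2) : val q x ∣ q ^ 4 - 1 := by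
  obtain ⟨d, b⟩ := x
  interval_cases hd : d
  · exact (val_one_dvd_sq q rfl).trans (dvd_four_sub_one q).2.1
  · cases b
    · exact (dvd_four_sub_one q).2.1
    · exact (dvd_four_sub_one q).1

/-- The multiset of orbit lengths selects one of the maximal orders. -/
theorem exists_pair (q : ℕ) (hq : 2 ≤ q) (s : Multiset (ℕ × Bool)) (hpos : ∀ e ∈ s, 0 < e.1) (hD : (s.map Prod.fst).sum ≤ 4) :
    ∃ P ∈ T8 q, (∀ e ∈ s, val q e ∣ P.2) ∧
      (((s.map Prod.fst).sum = 4 ∧ P.1 = 0) ∨ ((s.map Prod.fst).sum = 3 ∧ 1 ≤ P.1) ∨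
        ((s.map Prod.fst).sum = 2 ∧ 2 ≤ P.1) ∨ ((s.map Prod.fst).sum ≤ 1 ∧ 3 ≤ P.1)) := by
  set D := (s.map Prod.fst).sum with hDdef
  have hle : ∀ e ∈ s, 1 ≤ e.1 ∧ e.1 ≤ D := fun e he => ⟨hpos e he, (weight_split s hpos he).1⟩
  have hother : ∀ e ∈ s, ∀ x ∈ s, x = e ∨ (1 ≤ x.1 ∧ x.1 + e.1 ≤ D) := fun e he x hx =>
    ((weight_split s hpos he).2 x hx).imp id fun h => ⟨h.1, h.2.1⟩
  interval_cases D
  · refine ⟨(3, q - 1), by simp [T8], fun e he => ?_, by simp⟩
    have := hle e he
    omega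
  · -- total weight one
    by_cases hb : ∃ e ∈ s, e.2 = true
    · obtain ⟨⟨d, b⟩, he, rfl⟩ := hb
      obtain rfl : d = 1 := by have := hle _ he; simp at this; omega
      refine ⟨(3, q + 1), by simp [T8], fun x hx => ?_, by simp⟩
      rcases hother _ he x hx with rfl | h
      · simp [val_one]
      · simp at h; omega
    · refine ⟨(3, q - 1), by simp [T8], fun x hx => ?_, by simp⟩
      obtain ⟨d, b⟩ := x
      obtain rfl : d = 1 := by have := hle _ hx; simp at this; omega
      cases b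
      · simp [val_one]
      · exact absurd ⟨_, hx, rfl⟩ hb
  · -- total weight two
    by_cases hb : (2, true) ∈ s
    · refine ⟨(2, q ^ 2 + 1), by simp [T8], fun x hx => ?_, by simp⟩
      rcases hother _ hb x hx with rfl | h
      · simp [val]
      · simp at h; omega
    · refine ⟨(2, q ^ 2 - 1), by simp [T8], fun x hx => ?_, by simp⟩
      obtain ⟨d, b⟩ := x
      obtain ⟨h1, h2⟩ := hle _ hx
      simp only at h1 h2
      interval_cases d
      · exact val_one_dvd_sq q rfl
      · cases b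
        · simp [val]
        · exact absurd hx hb
  · -- total weight three
    by_cases hb3 : ∃ e ∈ s, e.1 = 3
    · obtain ⟨⟨d, b⟩, he, rfl⟩ := hb3
      refine ⟨(1, if b then q ^ 3 + 1 else q ^ 3 - 1), by cases b <;> simp [T8], fun x hx => ?_, by simp⟩
      rcases hother _ he x hx with rfl | h
      · simp [val]
      · simp at h; omega
    by_cases hb2 : (2, true) ∈ s
    · by_cases hb1 : (1, true) ∈ s
      · refine ⟨(1, (q ^ 2 + 1) * (q + 1)), by simp [T8], fun x hx => ?_, by simp⟩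
        rcases (weight_split s hpos hb2).2 _ hb1 with h | ⟨-, -, h⟩
        · simp at h
        rcases h x hx with rfl | rfl | h'
        · exact dvd_mul_right _ _
        · simp [val_one]
        · simp at h'; omega
      · refine ⟨(1, (q ^ 2 + 1) * (q - 1)), by simp [T8], fun x hx => ?_, by simp⟩
        rcases hother _ hb2 x hx with rfl | h
        · exact dvd_mul_right _ _
        · obtain ⟨d, b⟩ := x
          obtain rfl : d = 1 := by simp at h; omega
          cases b
          · simp [val_one]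
          · exact absurd hx hb1
    · -- all orbits inside the quadratic field
      refine ⟨(2, q ^ 2 - 1), by simp [T8], fun x hx => ?_, by simp⟩
      obtain ⟨d, b⟩ := x
      obtain ⟨h1, h2⟩ := hle _ hx
      simp only at h1 h2
      interval_cases d
      · exact val_one_dvd_sq q rfl
      · cases b
        · simp [val]
        · exact absurd hx hb2
      · exact absurd ⟨_, hx, rfl⟩ hb3
  · -- total weight four
    by_cases hb4 : ∃ e ∈ s, e.1 = 4
    · obtain ⟨⟨d, b⟩, he, rfl⟩ := hb4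
      refine ⟨(0, if b then q ^ 4 + 1 else q ^ 4 - 1), by cases b <;> simp [T8], fun x hx => ?_, by simp⟩
      rcases hother _ he x hx with rfl | h
      · simp [val]
      · simp at h; omega
    by_cases hb3 : ∃ e ∈ s, e.1 = 3
    · obtain ⟨⟨d, b⟩, he, rfl⟩ := hb3
      obtain ⟨hc1, hc2⟩ := dvd_cube q (by omega)
      refine ⟨(0, if b then (q ^ 3 + 1) * (q - 1) else (q ^ 3 - 1) * (q + 1)),
        by cases b <;> simp [T8], fun x hx => ?_, by simp⟩
      rcases hother _ he x hx with rfl | h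
      · cases b <;> simp [val]
      · obtain ⟨d', b'⟩ := x
        obtain rfl : d' = 1 := by simp at h; omega
        cases b <;> cases b' <;>
          simp only [val_one, Bool.false_eq_true, if_false, if_true] <;>
          first
          | exact dvd_mul_left _ _
          | exact hc1.trans (dvd_mul_right _ _)
          | exact hc2.trans (dvd_mul_right _ _)
    · refine ⟨(0, q ^ 4 - 1), by simp [T8], fun x hx => ?_, by simp⟩
      obtain ⟨h1, h2⟩ := hle _ hx
      refine val_small_dvd_four q h1 ?_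
      by_contra hc
      rcases (show x.1 = 3 ∨ x.1 = 4 by omega) with h | h
      · exact hb3 ⟨x, hx, h⟩
      · exact hb4 ⟨x, hx, h⟩

variable {F : Type*} [Field F] [Fintype F] [CharP F 2] {V : Type*} [AddCommGroup V] [Module F V]
  [FiniteDimensional F V]

/-- The order of an isometry, and the vanishing of the norm map when the fixed space is not a line. -/
theorem exists_bound (B : V →ₗ[F] V →ₗ[F] F) (hB : ∀ u, (∀ v, B u v = 0) → u = 0)
    (hV : Module.finrank F V ≤ 8) {g g' : Module.End F V} (h1 : g * g' = 1) (h2 : g' * g = 1)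
    (hg : ∀ u v, B (g u) (g v) = B u v) :
    ∃ P ∈ T8 (Fintype.card F), g ^ (2 ^ P.1 * P.2) = 1 ∧
      (Module.finrank F (LinearMap.ker (g - 1)) ≠ 1 → ∑ i ∈ Finset.range (2 ^ P.1 * P.2), g ^ i = 0) := by
  classical
  set q := Fintype.card F with hq
  have hq2 : 2 ≤ q := Fintype.one_lt_card
  have hqeven : 2 ∣ q := Nat.dvd_of_mod_eq_zero (FiniteField.even_card_of_char_two (ringChar.eq F 2))
  set Ω := AlgebraicClosure F
  haveI : Fact (Nat.Prime 2) := ⟨Nat.prime_two⟩
  haveI : CharP Ω 2 := charP_of_injective_algebraMap (algebraMap F Ω).injective 2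
  obtain ⟨f, -, hcard⟩ := FiniteField.card F 2
  have hfrob : Function.Injective fun x : Ω => x ^ q := by
    have h := (iterateFrobenius Ω 2 f).injective
    intro a b hab
    exact h (by simpa [iterateFrobenius_def, hq, hcard] using hab)
  obtain ⟨h0, c, hc, hrev⟩ := minpoly_reverse B hB h1 h2 hg
  have hint : IsIntegral F g := Algebra.IsIntegral.isIntegral g
  set μ := minpoly F g with hμ
  have hmon : μ.Monic := minpoly.monic hint
  have hdeg : μ.natDegree ≤ Module.finrank F V := by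
    rw [← LinearMap.charpoly_natDegree g]
    exact natDegree_le_of_dvd (LinearMap.minpoly_dvd_charpoly g) (LinearMap.charpoly_monic g).ne_zero
  -- the fixed space
  set W := LinearMap.ker (g - 1) with hW
  have hdegW : 2 ≤ Module.finrank F W → μ.natDegree + 1 ≤ Module.finrank F V := by
    intro hW2
    have hgW : W ≤ W.comap g := fun x hx => by
      have hx' : g x = x := sub_eq_zero.1 hx
      rw [Submodule.mem_comap, hx']
      exact hx
    set gb : Module.End F (V ⧸ W) := W.mapQ W g hgW with hgb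
    have hcomm : ∀ (P : F[X]) (v : V), W.mkQ (aeval g P v) = aeval gb P (W.mkQ v) := by
      intro P
      induction P using Polynomial.induction_on' with
      | add a b ha hb => intro v; simp only [map_add, LinearMap.add_apply, ha, hb]
      | monomial k a =>
        intro v
        have hk : ∀ k : ℕ, W.mkQ ((g ^ k) v) = (gb ^ k) (W.mkQ v) := by
          intro k
          induction k with
          | zero => rfl
          | succ k ih => rw [pow_succ', pow_succ', Module.End.mul_apply, Module.End.mul_apply, ← ih]; rfl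
        simp only [aeval_monomial, Algebra.algebraMap_eq_smul_one, smul_mul_assoc, one_mul, LinearMap.smul_apply,
          map_smul, hk]
    set ρ := gb.charpoly with hρ
    have hker : aeval g ((X - 1) * ρ) = 0 := LinearMap.ext fun v => by
      have h3 : W.mkQ (aeval g ρ v) = 0 := by
        rw [hcomm, hρ, LinearMap.aeval_self_charpoly, LinearMap.zero_apply]
      rw [Submodule.mkQ_apply, Submodule.Quotient.mk_eq_zero] at h3
      rw [map_mul, map_sub, aeval_X, map_one, Module.End.mul_apply, LinearMap.zero_apply]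
      exact h3
    have h4 := natDegree_le_of_dvd (minpoly.dvd F g hker)
      (mul_ne_zero (X_sub_C_ne_zero 1) (LinearMap.charpoly_monic gb).ne_zero)
    rw [← hμ, hρ, show (X - 1 : F[X]) = X - C 1 by rw [C_1],
      natDegree_mul (X_sub_C_ne_zero 1) (LinearMap.charpoly_monic gb).ne_zero, natDegree_X_sub_C,
      LinearMap.charpoly_natDegree] at h4
    have := W.finrank_quotient_add_finrank
    omega
  set ν := μ.map (algebraMap F Ω) with hν
  have hνmon : ν.Monic := hmon.map _
  have hνcard : Multiset.card ν.roots ≤ μ.natDegree :=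
    (card_roots' ν).trans (by rw [hν, natDegree_map])
  have hνrev : ν.reverse = C (algebraMap F Ω c) * ν := by
    have e : ν.reverse = μ.reverse.map (algebraMap F Ω) := by
      ext i
      rw [coeff_map, Polynomial.coeff_reverse, Polynomial.coeff_reverse, hν, natDegree_map, coeff_map]
    rw [e, hrev, Polynomial.map_mul, map_C]
  have hone : Module.finrank F W = 0 → ν.roots.count 1 = 0 := by
    intro hW0
    rw [Multiset.count_eq_zero, mem_roots hνmon.ne_zero, IsRoot, hν, ← map_one (algebraMap F Ω),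
      eval_map_apply, map_eq_zero]
    intro hr
    obtain ⟨v, hv⟩ := (Module.End.hasEigenvalue_of_isRoot hr).exists_hasEigenvector
    have h5 : v ∈ W := by
      show (g - 1) v = 0
      rw [LinearMap.sub_apply, hv.apply_eq_smul, one_smul, Module.End.one_apply, sub_self]
    rw [Submodule.finrank_eq_zero.1 hW0, Submodule.mem_bot] at h5
    exact hv.2 h5
  have hroot0 : ∀ x ∈ ν.roots, x ≠ 0 := by
    rintro x hx rfl
    rw [mem_roots hνmon.ne_zero, IsRoot, ← coeff_zero_eq_eval_zero, hν, coeff_map] at hx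
    exact h0 ((map_eq_zero _).1 hx)
  have hinvle : ∀ x ∈ ν.roots, ν.roots.count x ≤ ν.roots.count x⁻¹ := fun x hx => by
    rw [count_roots, count_roots]
    exact rootMultiplicity_inv hνmon.ne_zero ((_root_.map_ne_zero _).2 hc) hνrev (hroot0 x hx)
  have hinvmem : ∀ x ∈ ν.roots, x⁻¹ ∈ ν.roots := fun x hx =>
    Multiset.count_pos.1 (lt_of_lt_of_le (Multiset.count_pos.2 hx) (hinvle x hx))
  have hqmem : ∀ x ∈ ν.roots, x ^ q ∈ ν.roots := fun x hx => by
    rw [mem_roots hνmon.ne_zero, IsRoot, hν, eval_map_algebraMap] at hx ⊢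
    rw [← Polynomial.expand_aeval, hq, FiniteField.expand_card, map_pow, hx, zero_pow (by omega)]
  set R := ν.roots.toFinset.filter fun x => x ≠ 1 with hR
  have hRmem : ∀ x ∈ R, x ∈ ν.roots ∧ x ≠ 1 := fun x hx => by simpa [hR] using hx
  have hinv_ne : ∀ x ∈ R, x⁻¹ ≠ x := fun x hx h => by
    obtain ⟨hx0, hx1⟩ := hRmem x hx
    have h3 : x ^ 2 = 1 := by
      rw [pow_two]
      nth_rewrite 1 [← h]
      exact inv_mul_cancel₀ (hroot0 x hx0)
    rcases sq_eq_one_iff.1 h3 with h3 | h3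
    · exact hx1 h3
    · exact hx1 (h3.trans (CharTwo.neg_eq 1))
  have hRinv : ∀ x ∈ R, x⁻¹ ∈ R := fun x hx => by
    obtain ⟨hx0, hx1⟩ := hRmem x hx
    exact Finset.mem_filter.2 ⟨Multiset.mem_toFinset.2 (hinvmem x hx0), fun h => hx1 (inv_eq_one.1 h)⟩
  obtain ⟨s, hs1, hs2, hs3⟩ := exists_orbits hq2 hfrob _ R rfl fun x hx => by
    obtain ⟨hx0, hx1⟩ := hRmem x hx
    refine ⟨hroot0 x hx0, hinv_ne x hx, ?_, hRinv x hx⟩
    refine Finset.mem_filter.2 ⟨Multiset.mem_toFinset.2 (hqmem x hx0), fun h => hx1 (hfrob ?_)⟩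
    simpa using h
  have hcountpos : ∀ x ∈ R, 1 ≤ ν.roots.count x := fun x hx => Multiset.count_pos.2 (hRmem x hx).1
  set u := ν.roots.count 1 with hu
  set D := (s.map Prod.fst).sum with hD
  have h1R : (1 : Ω) ∉ R := fun h => (hRmem 1 h).2 rfl
  have hsum : u + ∑ y ∈ R, ν.roots.count y ≤ μ.natDegree := by
    have h6 := (sum_count_le ν.roots (insert 1 R)).trans hνcard
    rwa [Finset.sum_insert h1R] at h6
  have hRD : 2 * D ≤ ∑ y ∈ R, ν.roots.count y := by
    rw [hD, hs2, Finset.card_eq_sum_ones]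
    exact Finset.sum_le_sum hcountpos
  have hcount : ∀ x ∈ R, u + 2 * D + 2 * (ν.roots.count x - 1) ≤ μ.natDegree := by
    intro x hx
    have h7 : ∑ y ∈ R, (ν.roots.count y - 1) + R.card ≤ ∑ y ∈ R, ν.roots.count y := by
      rw [Finset.card_eq_sum_ones, ← Finset.sum_add_distrib]
      refine Finset.sum_le_sum fun y hy => ?_
      have := hcountpos y hy
      omega
    have h8 := Finset.sum_le_sum_of_subset (f := fun y => ν.roots.count y - 1)
      (show ({x, x⁻¹} : Finset Ω) ⊆ R from Finset.insert_subset hx (Finset.singleton_subset_iff.2 (hRinv x hx)))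
    rw [Finset.sum_pair (hinv_ne x hx).symm] at h8
    have := hinvle x (hRmem x hx).1
    omega
  obtain ⟨P, hP, hdvd, hcase⟩ := exists_pair q hq2 s hs1 (by omega)
  obtain ⟨j, M⟩ := P
  simp only at hdvd hcase ⊢
  have hModd : Odd M := by
    have hodd : ∀ e, 1 ≤ e → Odd (q ^ e + 1) ∧ Odd (q ^ e - 1) := fun e he => by
      have := hqeven.trans (dvd_pow_self q (by omega : e ≠ 0))
      have := Nat.one_le_pow e q (by omega)
      rw [Nat.odd_iff, Nat.odd_iff]
      omega
    have h1o : Odd (q + 1) ∧ Odd (q - 1) := by simpa using hodd 1 le_rfl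
    simp only [T8, List.mem_cons, Prod.mk.injEq, List.not_mem_nil, or_false] at hP
    rcases hP with ⟨-, h⟩ | ⟨-, h⟩ | ⟨-, h⟩ | ⟨-, h⟩ | ⟨-, h⟩ | ⟨-, h⟩ | ⟨-, h⟩ | ⟨-, h⟩ | ⟨-, h⟩ | ⟨-, h⟩ |
      ⟨-, h⟩ | ⟨-, h⟩ <;> subst h <;>
      simp only [Nat.odd_mul, (hodd 4 (by omega)), (hodd 3 (by omega)), (hodd 2 (by omega)), h1o, and_self]
  have hM0 : M ≠ 0 := by rintro rfl; simp at hModd
  have hroot : ∀ x ∈ ν.roots, x ^ M = 1 := fun x hx => by
    by_cases hx1 : x = 1
    · rw [hx1, one_pow]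
    obtain ⟨e, he, hxe⟩ := hs3 x (Finset.mem_filter.2 ⟨Multiset.mem_toFinset.2 hx, hx1⟩)
    obtain ⟨k, hk⟩ := hdvd e he
    rw [hk, pow_mul, hxe, one_pow]
  have hmult : ∀ x ∈ ν.roots, ν.roots.count x ≤ 2 ^ j := fun x hx => by
    have hj : ∀ i, i ≤ j → 2 ^ i ≤ 2 ^ j := fun i hi => Nat.pow_le_pow_right two_pos hi
    by_cases hx1 : x = 1
    · subst hx1
      rcases hcase with ⟨hd, hj0⟩ | ⟨hd, hj0⟩ | ⟨hd, hj0⟩ | ⟨hd, hj0⟩
      · have := hj 0 (Nat.zero_le _); omega
      · have := hj 1 hj0; omega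
      · have := hj 2 hj0; omega
      · have := hj 3 hj0; omega
    · have hxR : x ∈ R := Finset.mem_filter.2 ⟨Multiset.mem_toFinset.2 hx, hx1⟩
      have := hcount x hxR
      have := hcountpos x hxR
      rcases hcase with ⟨hd, hj0⟩ | ⟨hd, hj0⟩ | ⟨hd, hj0⟩ | ⟨hd, hj0⟩
      · have := hj 0 (Nat.zero_le _); omega
      · have := hj 1 hj0; omega
      · have := hj 2 hj0; omega
      · have := hj 3 hj0; omega
  have hM : ((X : Polynomial Ω) ^ M - 1) ≠ 0 := by simpa using (monic_X_pow_sub_C (1 : Ω) hM0).ne_zero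
  have hXL : (X : Polynomial Ω) ^ (2 ^ j * M) - 1 = (X ^ M - 1) ^ 2 ^ j := by
    rw [sub_pow_char_pow, one_pow, ← pow_mul, mul_comm]
  have hge : ∀ x ∈ ν.roots, 2 ^ j ≤ ((X : Polynomial Ω) ^ (2 ^ j * M) - 1).roots.count x := fun x hx => by
    rw [hXL, roots_pow, Multiset.count_nsmul]
    refine Nat.le_mul_of_pos_right _ (Multiset.count_pos.2 ?_)
    rw [mem_roots hM, IsRoot, eval_sub, eval_pow, eval_X, eval_one, hroot x hx, sub_self]
  have hnM : ((X : Polynomial Ω) ^ (2 ^ j * M) - 1) ≠ 0 := by rw [hXL]; exact pow_ne_zero _ hM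
  have key : ∀ (P : Polynomial Ω), P ≠ 0 → (∀ x ∈ ν.roots, ν.roots.count x ≤ P.roots.count x) → ν ∣ P := by
    intro P hP hcnt
    conv_lhs => rw [Polynomial.Splits.eq_prod_roots_of_monic (IsAlgClosed.splits ν) hνmon]
    rw [Multiset.prod_X_sub_C_dvd_iff_le_roots hP, Multiset.le_iff_count]
    intro x
    by_cases hx : x ∈ ν.roots
    · exact hcnt x hx
    · rw [Multiset.count_eq_zero.2 hx]; exact Nat.zero_le _
  refine ⟨(j, M), hP, ?_, fun hne => ?_⟩
  · have hd := key _ hnM fun x hx => (hmult x hx).trans (hge x hx)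
    have hd' : μ ∣ X ^ (2 ^ j * M) - 1 := by
      refine (map_dvd_map (algebraMap F Ω) (algebraMap F Ω).injective hmon).1 ?_
      simpa [hν] using hd
    obtain ⟨r, hr⟩ := hd'
    have := congrArg (aeval g) hr
    rwa [map_sub, map_pow, aeval_X, map_one, map_mul, minpoly.aeval, zero_mul, sub_eq_zero] at this
  · set P := ∑ i ∈ Finset.range (2 ^ j * M), (X : Polynomial Ω) ^ i with hPdef
    have hPX : P * (X - C 1) = X ^ (2 ^ j * M) - 1 := by rw [C_1]; exact geom_sum_mul _ _
    have hP0 : P ≠ 0 := fun h => hnM (by rw [← hPX, h, zero_mul])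
    have hd := key P hP0 fun x hx => by
      have h9 := hge x hx
      rw [← hPX, roots_mul (by rw [hPX]; exact hnM), roots_X_sub_C, Multiset.count_add,
        Multiset.count_singleton] at h9
      by_cases hx1 : x = 1
      · subst hx1
        rw [if_pos rfl] at h9
        have hu1 : 1 ≤ u := Multiset.count_pos.2 hx
        have hW2 : 2 ≤ Module.finrank F W := by
          by_contra hc2
          have := hone (by omega)
          omega
        have := hdegW hW2
        have hj : ∀ i, i ≤ j → 2 ^ i ≤ 2 ^ j := fun i hi => Nat.pow_le_pow_right two_pos hi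
        rcases hcase with ⟨hd', hj0⟩ | ⟨hd', hj0⟩ | ⟨hd', hj0⟩ | ⟨hd', hj0⟩
        · omega
        · have := hj 1 hj0; omega
        · have := hj 2 hj0; omega
        · have := hj 3 hj0; omega
      · rw [if_neg hx1, add_zero] at h9
        exact (hmult x hx).trans h9
    have hd' : μ ∣ ∑ i ∈ Finset.range (2 ^ j * M), (X : F[X]) ^ i := by
      refine (map_dvd_map (algebraMap F Ω) (algebraMap F Ω).injective hmon).1 ?_
      simpa [hν, hPdef, Polynomial.map_sum] using hd
    obtain ⟨r, hr⟩ := hd'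
    have := congrArg (aeval g) hr
    rw [map_mul, minpoly.aeval, zero_mul, map_sum] at this
    simpa using this

end Cfsg.Agent.SpecSpEight
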