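import Cfsg.Agent.Classical.Elusive.CharTwoPoint

/-!
Maximal tori elements of orthogonal groups of every rank in characteristic two, and orthogonal sums of
quadratic spaces of plus and minus type.
-/

set_option autoImplicit false

namespace Cfsg.Agent.SpecSpEight

open Module QuadraticMap Cfsg.Agent.Classical.Quad

universe u v w

variable {F : Type u} [Field F] [Fintype F] [CharP F 2]

/-- An isometry of order `q ^ d - 1` of a hyperbolic space of dimension `2 d`. -/
theorem exists_plus {d : ℕ} (hd : 1 ≤ d) :
    ∃ φ : oG (hyp (zeroForm F) d), orderOf φ = Fintype.card F ^ d - 1 := by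
  classical
  haveI : NeZero d := ⟨by omega⟩
  let K := FiniteField.Extension F 2 d
  have hcard : Nat.card Kˣ = Fintype.card F ^ d - 1 := by
    rw [Nat.card_units, FiniteField.natCard_extension, Nat.card_eq_fintype_card]
  obtain ⟨ζ, hζ⟩ : ∃ ζ : Kˣ, orderOf ζ = Fintype.card F ^ d - 1 := by
    obtain ⟨g, hg⟩ := IsCyclic.exists_ofOrder_eq_natCard (α := Kˣ)
    exact ⟨g, hg.trans hcard⟩
  let R : QuadraticForm F (K × K) :=
    LinearMap.BilinMap.toQuadraticMap (LinearMap.compl₁₂ ((LinearMap.mul F K).compr₂ (Algebra.trace F K))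
      (LinearMap.fst F K K) (LinearMap.snd F K K))
  have hR : ∀ x : K × K, R x = Algebra.trace F K (x.1 * x.2) := fun x => rfl
  have hpol : ∀ x y : K × K, polar R x y =
      Algebra.trace F K (x.1 * y.2) + Algebra.trace F K (y.1 * x.2) := fun x y => by
    show R (x + y) - R x - R y = _
    simp only [hR, Prod.fst_add, Prod.snd_add, add_mul, mul_add, map_add]
    ring
  have hRn : (polarBilin R).Nondegenerate := nondeg_of fun x hx => by
    have hN := traceForm_nondegenerate F K
    refine Prod.ext (hN.1 _ fun y => ?_) (hN.1 _ fun y => ?_)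
    · have := hx (0, y)
      simpa [hpol, Algebra.traceForm_apply] using this
    · have := hx (y, 0)
      rw [hpol] at this
      simpa [Algebra.traceForm_apply, mul_comm] using this
  have hfr : finrank F (K × K) = 2 * d := by
    rw [Module.finrank_prod, FiniteField.finrank_extension, two_mul]
  have hiso : Iso (hyp (zeroForm F) d) R := by
    rcases even_cases hRn hfr with h | ⟨-, h⟩
    · exact h
    · exfalso
      obtain ⟨ζ', hζ'⟩ := exists_rootfree (F := F)
      obtain ⟨e, he⟩ := (h _ _ (rootfree_aniso hζ')).symm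
      have := aniso_index (nondeg_binForm (rootfree_aniso hζ'))
        (fun _ hz => by_contra fun hz' => binForm_ne_zero (rootfree_aniso hζ') hz' hz) (d - 1)
        ((LinearMap.range (LinearMap.inl F K K)).map e.toLinearMap) (by
          rintro _ ⟨_, ⟨x, rfl⟩, rfl⟩
          rw [LinearEquiv.coe_coe, he, hR]
          simp)
      rw [LinearEquiv.finrank_map_eq, LinearMap.finrank_range_of_inj LinearMap.inl_injective,
        FiniteField.finrank_extension] at this
      omega
  let θ : Kˣ →* oG R :=
    { toFun := fun u => ⟨LinearEquiv.ofLinearMap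
        ((LinearMap.mulLeft F (u : K)).prodMap (LinearMap.mulLeft F ((u⁻¹ : Kˣ) : K)))
        ((LinearMap.mulLeft F ((u⁻¹ : Kˣ) : K)).prodMap (LinearMap.mulLeft F (u : K)))
        (LinearMap.ext fun x => by simp [← mul_assoc]) (LinearMap.ext fun x => by simp [← mul_assoc]),
        fun x => by
          show R (_, _) = R x
          rw [hR, hR]
          simp only [LinearMap.coe_comp, Function.comp_apply, LinearMap.fst_apply, LinearMap.snd_apply,
            LinearMap.mulLeft_apply]
          congr 1
          rw [mul_mul_mul_comm, Units.mul_inv, one_mul]⟩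
      map_one' := Subtype.ext (LinearEquiv.ext fun x => by simp)
      map_mul' := fun a c => Subtype.ext (LinearEquiv.ext fun x => by simp [LinearEquiv.mul_apply, mul_comm,
        mul_left_comm]) }
  obtain ⟨e, he⟩ := hiso.symm
  refine ⟨oCongr e he (θ ζ), ?_⟩
  rw [MulEquiv.orderOf_eq, orderOf_injective θ (fun a c h => ?_), hζ]
  have := congrArg (fun g : oG R => (g.1 ((1 : K), (0 : K))).1) h
  simpa [θ, Units.ext_iff] using this

/-- An isometry of order `q ^ d + 1` of a minus type space of dimension `2 d`. -/
theorem exists_minus {d : ℕ} (hd : 1 ≤ d)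
    {a b : F} (hab : ∀ z₁ z₂ : F, z₁ ^ 2 + a * z₁ * z₂ + b * z₂ ^ 2 = 0 → z₁ = 0 ∧ z₂ = 0) :
    ∃ φ : oG (hyp (binForm a b) (d - 1)), orderOf φ = Fintype.card F ^ d + 1 := by
  classical
  set q := Fintype.card F with hq
  have hq2 : 2 ≤ q := Fintype.one_lt_card
  haveI : NeZero (2 * d) := ⟨by omega⟩
  let K := FiniteField.Extension F 2 (2 * d)
  haveI : Fintype K := Fintype.ofFinite K
  have hfr : finrank F K = 2 * d := FiniteField.finrank_extension F 2 (2 * d)
  have hKcard : Nat.card K = q ^ (2 * d) := by
    rw [FiniteField.natCard_extension, Nat.card_eq_fintype_card]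
  set τ := FiniteField.frobeniusAlgEquivOfAlgebraic F K ^ d with hτ
  have hτa : ∀ x : K, τ x = x ^ q ^ d := fun x => by
    rw [hτ, AlgEquiv.coe_pow, FiniteField.coe_frobeniusAlgEquivOfAlgebraic_iterate]
  have hττ : ∀ x : K, τ (τ x) = x := fun x => by
    rw [hτa, hτa, ← pow_mul, ← pow_add, ← two_mul, ← hKcard, Nat.card_eq_fintype_card, FiniteField.pow_card]
  obtain ⟨w, hw⟩ : ∃ w : K, τ w ≠ w := by
    by_contra hne
    push Not at hne
    have h1 : τ = 1 := AlgEquiv.ext hne
    rw [hτ, ← orderOf_dvd_iff_pow_eq_one, FiniteField.orderOf_frobeniusAlgEquivOfAlgebraic, hfr] at h1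
    have := Nat.le_of_dvd (by omega) h1
    omega
  set c := w * (w + τ w)⁻¹ with hc
  haveI : CharP K 2 := charP_of_injective_algebraMap (algebraMap F K).injective 2
  have hs : w + τ w ≠ 0 := fun h => hw (CharTwo.add_eq_zero.1 h).symm
  have hcc : c + τ c = 1 := by
    rw [hc, map_mul, map_inv₀, map_add, hττ, add_comm (τ w) w, ← add_mul, mul_inv_cancel₀ hs]
  let R : QuadraticForm F K := LinearMap.BilinMap.toQuadraticMap
    (((((LinearMap.mul F K).compl₂ τ.toLinearMap).compr₂ (LinearMap.mulLeft F c))).compr₂ (Algebra.trace F K))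
  have hR : ∀ x : K, R x = Algebra.trace F K (c * (x * τ x)) := fun x => rfl
  have hpol : ∀ x y : K, polar R x y = Algebra.trace F K (x * τ y) := fun x y => by
    show R (x + y) - R x - R y = _
    have e : Algebra.trace F K (c * (y * τ x)) = Algebra.trace F K (τ c * (x * τ y)) := by
      rw [← Algebra.trace_eq_of_algEquiv τ (c * (y * τ x)), map_mul τ c, map_mul τ y, hττ, mul_comm x (τ y)]
    simp only [hR, map_add τ, add_mul, mul_add, map_add]
    rw [e]
    have e2 : Algebra.trace F K (x * τ y) =
        Algebra.trace F K (c * (x * τ y)) + Algebra.trace F K (τ c * (x * τ y)) := by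
      rw [← map_add, ← add_mul, hcc, one_mul]
    rw [e2]
    ring
  have hRn : (polarBilin R).Nondegenerate := nondeg_of fun x hx => by
    refine (traceForm_nondegenerate F K).1 x fun y => ?_
    have := hx (τ y)
    rwa [hpol, hττ] at this
  let N : Subgroup Kˣ :=
    { carrier := {u | (u : K) * τ u = 1}
      one_mem' := by simp
      mul_mem' := fun {u v} hu hv => by
        simp only [Set.mem_setOf_eq, Units.val_mul, map_mul] at *
        rw [mul_mul_mul_comm, hu, hv, one_mul]
      inv_mem' := fun {u} hu => by
        simp only [Set.mem_setOf_eq] at *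
        have := congrArg (fun t : K => t⁻¹) hu
        simpa [mul_inv_rev, map_inv₀, mul_comm] using this }
  obtain ⟨g, hg⟩ := IsCyclic.exists_ofOrder_eq_natCard (α := Kˣ)
  have hu : Nat.card Kˣ = (q ^ d + 1) * (q ^ d - 1) := by
    refine (Nat.card_units K).trans ?_
    rw [hKcard, sq_pow_sub_one]
  have hqd : 1 < q ^ d := Nat.one_lt_pow (by omega) hq2
  set u := g ^ (q ^ d - 1) with hudef
  have hord : orderOf u = q ^ d + 1 := by
    rw [hudef, orderOf_pow' _ (by omega), hg, hu, Nat.gcd_mul_left_left, Nat.mul_div_cancel _ (by omega)]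
  have huN : u ∈ N := by
    show (u : K) * τ u = 1
    rw [hτa, ← pow_succ', ← Units.val_pow_eq_pow_val, ← hord, pow_orderOf_eq_one, Units.val_one]
  let θ : N →* oG R :=
    { toFun := fun t => ⟨LinearEquiv.ofLinearMap (LinearMap.mulLeft F ((t : Kˣ) : K))
        (LinearMap.mulLeft F (((t : Kˣ)⁻¹ : Kˣ) : K))
        (LinearMap.ext fun x => by simp [← mul_assoc]) (LinearMap.ext fun x => by simp [← mul_assoc]),
        fun x => by
          show R (((t : Kˣ) : K) * x) = R x
          rw [hR, hR, map_mul τ, mul_mul_mul_comm ((t : Kˣ) : K) x, t.2, one_mul]⟩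
      map_one' := Subtype.ext (LinearEquiv.ext fun x => by simp)
      map_mul' := fun a c => Subtype.ext (LinearEquiv.ext fun x => by simp [LinearEquiv.mul_apply, mul_assoc]) }
  have hiso : Iso (hyp (binForm a b) (d - 1)) R := by
    rcases even_cases hRn hfr with h | ⟨-, h⟩
    · exfalso
      obtain ⟨m, rfl⟩ : ∃ m, d = m + 1 := ⟨d - 1, by omega⟩
      have hz := zcard_plus (F := F) hq.symm m
      rw [h.zcard_eq] at hz
      let S : Set Kˣ := {x | R (x : K) = 0}
      let H : Subgroup Kˣ := Subgroup.zpowers u
      have hHN : H ≤ N := Subgroup.zpowers_le.2 huN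
      have hS : S = QuotientGroup.mk (s := H) ⁻¹' (QuotientGroup.mk (s := H) '' S) := by
        refine Set.Subset.antisymm (Set.subset_preimage_image _ _) ?_
        rintro x ⟨y, hy, hxy⟩
        have ht : y⁻¹ * x ∈ H := QuotientGroup.eq.1 hxy
        show R (x : K) = 0
        have hx : (x : K) = (((y⁻¹ * x : Kˣ)) : K) * (y : K) := by
          rw [← Units.val_mul, mul_right_comm, inv_mul_cancel, one_mul]
        rw [hx]
        exact ((θ ⟨_, hHN ht⟩).2 (y : K)).trans hy
      have hdvd : q ^ (m + 1) + 1 ∣ Nat.card S := by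
        rw [hS, Nat.card_congr (QuotientGroup.preimageMkEquivSubgroupProdSet H _), Nat.card_prod,
          Nat.card_zpowers, hord]
        exact dvd_mul_right _ _
      have hSz : Nat.card S + 1 = zcard R := by
        have e : {x : K // x ≠ 0 ∧ R x = 0} ≃ S :=
          { toFun := fun x => ⟨Units.mk0 x.1 x.2.1, x.2.2⟩
            invFun := fun x => ⟨x.1.1, x.1.ne_zero, x.2⟩
            left_inv := fun x => rfl
            right_inv := fun x => Subtype.ext (Units.ext rfl) }
        rw [← Nat.card_congr e, zcard, Nat.card_eq_fintype_card, Nat.card_eq_fintype_card,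
          Fintype.card_subtype, Fintype.card_subtype]
        have h1 : Finset.univ.filter (fun x : K => R x = 0) =
            insert 0 (Finset.univ.filter (fun x : K => x ≠ 0 ∧ R x = 0)) := by
          ext x
          by_cases hx : x = 0 <;> simp [hx, QuadraticMap.map_zero]
        rw [h1, Finset.card_insert_of_notMem (by simp)]
      obtain ⟨t, ht⟩ := hdvd
      have e1 : q ^ (2 * m + 1) = q ^ (m + 1) * q ^ m := by rw [← pow_add]; congr 1; omega
      rw [← hSz, ht, e1, pow_succ] at hz
      have hA : q ^ m * 2 ≤ q ^ m * q := Nat.mul_le_mul_left _ hq2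
      have hB1 : 1 ≤ q ^ m := Nat.one_le_pow _ _ (by omega)
      have he : Even (q ^ m * q) :=
        Even.mul_left (Nat.even_iff.2 (FiniteField.even_card_of_char_two (ringChar.eq F 2))) _
      generalize hAdef : q ^ m * q = A at *
      generalize q ^ m = B at *
      obtain ⟨w', hw'⟩ := he
      have hts : t < B + 1 := by
        by_contra hc
        have := Nat.mul_le_mul_left (A + 1) (not_lt.1 hc)
        nlinarith
      obtain ⟨s, hs'⟩ : ∃ s, B + 1 = t + s + 1 := ⟨B - t, by omega⟩
      have hst : (s + 1) * (A + 1) = 2 * B + 2 := by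
        have hB : B = t + s := by omega
        subst hB
        nlinarith [hz]
      rcases Nat.eq_zero_or_pos s with rfl | hs0
      · omega
      · have := Nat.mul_le_mul_right (A + 1) (show 2 ≤ s + 1 by omega)
        omega
    · exact h a b hab
  obtain ⟨e, he⟩ := hiso.symm
  refine ⟨oCongr e he (θ ⟨u, huN⟩), ?_⟩
  rw [MulEquiv.orderOf_eq, orderOf_injective θ (fun x y h => ?_), Subgroup.orderOf_mk, hord]
  have := congrArg (fun g : oG R => g.1 (1 : K)) h
  exact Subtype.ext (Units.ext (by simpa [θ] using this))

section Sums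

variable {U : Type v} [AddCommGroup U] [Module F U] {U' : Type w} [AddCommGroup U'] [Module F U']

omit [Fintype F] [CharP F 2]

theorem iso_prod {V₁ V₂ : Type*} [AddCommGroup V₁] [Module F V₁] [AddCommGroup V₂] [Module F V₂]
    {R : QuadraticForm F U} {R' : QuadraticForm F U'} {S : QuadraticForm F V₁} {S' : QuadraticForm F V₂}
    (h : Iso R R') (h' : Iso S S') : Iso (R.prod S) (R'.prod S') := by
  obtain ⟨e, he⟩ := h
  obtain ⟨e', he'⟩ := h'
  exact ⟨e.prodCongr e', fun x => by simp [he, he']⟩

theorem iso_comm (R : QuadraticForm F U) (R' : QuadraticForm F U') : Iso (R.prod R') (R'.prod R) :=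
  ⟨LinearEquiv.prodComm F U U', fun x => by simp [add_comm]⟩

/-- Adding hyperbolic planes. -/
theorem plus_prod (i : ℕ) (S : QuadraticForm F U) : Iso ((hyp (zeroForm F) i).prod S) (hyp S i) := by
  refine ⟨{ toFun := fun x => (x.1.1, x.2)
            invFun := fun x => ((x.1, 0), x.2)
            map_add' := fun x y => rfl
            map_smul' := fun c x => rfl
            left_inv := fun x => by ext <;> simp [Subsingleton.elim x.1.2 0]
            right_inv := fun x => rfl }, fun x => ?_⟩
  simp [hyp_apply, zeroForm]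

theorem hyp_hyp (i j : ℕ) (R : QuadraticForm F U) : Iso (hyp (hyp R j) i) (hyp R (i + j)) := by
  let A : ((Fin i → F) × (Fin j → F)) ≃ₗ[F] (Fin (i + j) → F) :=
    (LinearEquiv.sumArrowLequivProdArrow (Fin i) (Fin j) F F).symm.trans
      (LinearEquiv.funCongrLeft F F finSumFinEquiv.symm)
  have hl : ∀ (x : (Fin i → F) × (Fin j → F)) (k : Fin i), A x (Fin.castAdd j k) = x.1 k := fun x k => by
    simp [A, LinearEquiv.funCongrLeft_apply, LinearMap.funLeft_apply]
    rfl
  have hr : ∀ (x : (Fin i → F) × (Fin j → F)) (k : Fin j), A x (Fin.natAdd i k) = x.2 k := fun x k => by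
    simp [A, LinearEquiv.funCongrLeft_apply, LinearMap.funLeft_apply]
    rfl
  refine ⟨{ toFun := fun x => ((A (x.1.1, x.2.1.1), A (x.1.2, x.2.1.2)), x.2.2)
            invFun := fun y => (((A.symm y.1.1).1, (A.symm y.1.2).1), (((A.symm y.1.1).2, (A.symm y.1.2).2), y.2))
            map_add' := fun x y => by
              simp only [Prod.fst_add, Prod.snd_add, Prod.mk_add_mk, ← map_add]
            map_smul' := fun c x => by
              simp only [Prod.smul_fst, Prod.smul_snd, Prod.smul_mk, RingHom.id_apply, ← map_smul]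
            left_inv := fun x => by simp
            right_inv := fun y => by simp }, fun x => ?_⟩
  simp [hyp_apply, Fin.sum_univ_add, hl, hr, add_assoc]

theorem plus_plus (i j : ℕ) : Iso ((hyp (zeroForm F) i).prod (hyp (zeroForm F) j)) (hyp (zeroForm F) (i + j)) :=
  (plus_prod i _).trans (hyp_hyp i j _)

theorem plus_minus (i j : ℕ) (R : QuadraticForm F U) : Iso ((hyp (zeroForm F) i).prod (hyp R j)) (hyp R (i + j)) :=
  (plus_prod i _).trans (hyp_hyp i j _)

theorem minus_plus (i j : ℕ) (R : QuadraticForm F U) : Iso ((hyp R j).prod (hyp (zeroForm F) i)) (hyp R (i + j)) :=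
  (iso_comm _ _).trans (plus_minus i j R)

variable [CharP F 2]

/-- A split binary form with non-zero middle coefficient. -/
theorem iso_binForm_plus : Iso (binForm (1 : F) 0) (hyp (zeroForm F) 1) := by
  refine ⟨{ toFun := fun z => ((fun _ => z.1, fun _ => z.1 + z.2), 0)
            invFun := fun y => (y.1.1 0, y.1.1 0 + y.1.2 0)
            map_add' := fun x y => by ext i <;> first | exact i.elim0 | simp [add_add_add_comm]
            map_smul' := fun c x => by ext i <;> first | exact i.elim0 | simp [mul_add]
            left_inv := fun z => by ext <;> simp [← add_assoc, CharTwo.add_self_eq_zero]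
            right_inv := fun y => by
              ext i <;> first | exact i.elim0 | simp [Fin.eq_zero i, ← add_assoc, CharTwo.add_self_eq_zero] }, fun z => ?_⟩
  simp [hyp_apply, binForm_apply, zeroForm, mul_add, pow_two]

variable [Fintype F]

/-- Two minus type spaces add up to a plus type space. -/
theorem minus_minus {a b : F} (hab : ∀ z₁ z₂ : F, z₁ ^ 2 + a * z₁ * z₂ + b * z₂ ^ 2 = 0 → z₁ = 0 ∧ z₂ = 0)
    (i j : ℕ) : Iso ((hyp (binForm a b) i).prod (hyp (binForm a b) j)) (hyp (zeroForm F) (i + j + 2)) := by
  have hn : (polarBilin ((hyp (binForm a b) i).prod (hyp (binForm a b) j))).Nondegenerate :=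
    nondeg_of fun x hx => Prod.ext
      (eq_zero_of_polar (nondeg_hyp (nondeg_binForm hab) i) fun y => by simpa [polar] using hx (y, 0))
      (eq_zero_of_polar (nondeg_hyp (nondeg_binForm hab) j) fun y => by simpa [polar] using hx (0, y))
  have hd : finrank F ((((Fin i → F) × (Fin i → F)) × (F × F)) × (((Fin j → F) × (Fin j → F)) × (F × F))) =
      2 * (i + j + 2) := by
    simp only [Module.finrank_prod, Module.finrank_fin_fun, Module.finrank_self]
    ring
  rcases even_cases hn hd with h | ⟨-, h⟩
  · exact h.symm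
  · exfalso
    obtain ⟨e, he⟩ := (h a b hab).symm
    let L : ((Fin i → F) × (Fin j → F)) × (F × F) →ₗ[F]
        (((Fin i → F) × (Fin i → F)) × (F × F)) × (((Fin j → F) × (Fin j → F)) × (F × F)) :=
      { toFun := fun x => (((x.1.1, 0), x.2), ((x.1.2, 0), x.2))
        map_add' := fun x y => by simp
        map_smul' := fun c x => by simp }
    have hL : Function.Injective L := fun x y hxy => by
      simpa [L, Prod.ext_iff, and_assoc, and_comm, and_left_comm] using hxy
    have := aniso_index (nondeg_binForm hab) (fun _ hz => by_contra fun hz' => binForm_ne_zero hab hz' hz)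
      (i + j + 2 - 1) ((LinearMap.range L).map e.toLinearMap) (by
        rintro _ ⟨_, ⟨x, rfl⟩, rfl⟩
        rw [LinearEquiv.coe_coe, he]
        simp [L, hyp_apply, CharTwo.add_self_eq_zero])
    rw [LinearEquiv.finrank_map_eq, LinearMap.finrank_range_of_inj hL] at this
    simp only [Module.finrank_prod, Module.finrank_fin_fun, Module.finrank_self] at this
    omega

end Sums

end Cfsg.Agent.SpecSpEight
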